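import Groth.Agent.S0299
import Groth.Agent.LC.Matlis
import Groth.Agent.AssLib.Basic

/-!
# Nilpotence of locally nilpotent Frobenius actions on Artinian modules over a complete local ring
-/

set_option autoImplicit false

universe u

open IsLocalRing

namespace Groth.Agent.HSL

variable {C : Type u} [CommRing C] {X : Type u} [AddCommGroup X] [Module C X]
variable {p : ℕ} (ψ : X →+ X) (hψ : ∀ (c : C) (x : X), ψ (c • x) = c ^ p • ψ x)

include hψ in
theorem iterate_smul (n : ℕ) (c : C) (x : X) : ψ^[n] (c • x) = c ^ (p ^ n) • ψ^[n] x := by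
  induction n generalizing c x with
  | zero => simp
  | succ n ih =>
    rw [Function.iterate_succ_apply, Function.iterate_succ_apply, hψ, ih, ← pow_mul, ← pow_succ']

/-- The kernel of the `n`-th iterate. -/
def M (n : ℕ) : Submodule C X where
  carrier := {x | ψ^[n] x = 0}
  zero_mem' := iterate_map_zero ψ n
  add_mem' {x y} hx hy := by
    show ψ^[n] (x + y) = 0
    rw [iterate_map_add, show ψ^[n] x = 0 from hx, show ψ^[n] y = 0 from hy, add_zero]
  smul_mem' c x hx := by
    show ψ^[n] (c • x) = 0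
    rw [iterate_smul ψ hψ, show ψ^[n] x = 0 from hx, smul_zero]

theorem mem_M {n : ℕ} {x : X} : x ∈ M ψ hψ n ↔ ψ^[n] x = 0 := Iff.rfl

theorem mem_M_succ {n : ℕ} {x : X} : x ∈ M ψ hψ (n + 1) ↔ ψ x ∈ M ψ hψ n := by
  rw [mem_M, mem_M, Function.iterate_succ_apply]

theorem M_mono : Monotone (M ψ hψ) := by
  refine monotone_nat_of_le_succ fun n x hx => ?_
  rw [mem_M, Function.iterate_succ_apply', show ψ^[n] x = 0 from hx, map_zero]

/-- Annihilator of the layer `M (n+1) / M n`. -/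
def layerAnn (n : ℕ) : Ideal C where
  carrier := {c | ∀ x ∈ M ψ hψ (n + 1), c • x ∈ M ψ hψ n}
  zero_mem' x _ := by simp
  add_mem' {a b} ha hb x hx := by rw [add_smul]; exact add_mem (ha x hx) (hb x hx)
  smul_mem' a b hb x hx := by rw [smul_eq_mul, mul_smul]; exact Submodule.smul_mem _ a (hb x hx)

theorem layerAnn_root {n : ℕ} {c : C} (hc : c ^ p ∈ layerAnn ψ hψ n) : c ∈ layerAnn ψ hψ (n + 1) := by
  intro x hx
  rw [mem_M_succ, hψ]
  exact hc _ ((mem_M_succ ψ hψ).mp hx)

theorem layerAnn_mono (hp : 0 < p) : Monotone (layerAnn ψ hψ) :=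
  monotone_nat_of_le_succ fun n _ hc => layerAnn_root ψ hψ (Ideal.pow_mem_of_mem _ hc p hp)

variable {n₀ : ℕ} {b : Ideal C} (hb : ∀ n, n₀ ≤ n → layerAnn ψ hψ n = b)

include hb in
theorem mem_of_pow_mem (hp : 2 ≤ p) {c : C} {m : ℕ} (hc : c ^ m ∈ b) : c ∈ b := by
  have hroot : ∀ a : C, a ^ p ∈ b → a ∈ b := fun a ha => by
    rw [← hb (n₀ + 1) (Nat.le_succ n₀)]
    exact layerAnn_root ψ hψ (by rwa [hb n₀ le_rfl])
  have h : ∀ k : ℕ, ∀ a : C, a ^ (p ^ k) ∈ b → a ∈ b := fun k => by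
    induction k with
    | zero => intro a ha; simpa using ha
    | succ k ih =>
      intro a ha
      exact hroot a (ih _ (by rwa [← pow_mul, ← pow_succ']))
  refine h m c ?_
  exact b.pow_mem_of_pow_mem hc (Nat.lt_pow_self hp).le

include hb in
/-- The self-improving shift. -/
theorem shift (hp : 2 ≤ p) (s : ℕ) : ∀ c ∈ b, ∀ n, ∀ x ∈ M ψ hψ (n₀ + 1 + n),
    c • x ∈ M ψ hψ (n₀ + 1 + (n - (s + 1))) := by
  induction s with
  | zero =>
    intro c hc n x hx
    rcases n with _ | k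
    · exact Submodule.smul_mem _ c hx
    · rw [← hb (n₀ + 1 + k) (by omega)] at hc
      simpa using hc x hx
  | succ s ih =>
    intro c hc n x hx
    rcases n with _ | k
    · simpa using Submodule.smul_mem _ c hx
    have hy : ψ x ∈ M ψ hψ (n₀ + 1 + k) := (mem_M_succ ψ hψ).mp hx
    have hit : ∀ j : ℕ, c ^ j • ψ x ∈ M ψ hψ (n₀ + 1 + (k - j * (s + 1))) := by
      intro j
      induction j with
      | zero => simpa using hy
      | succ j ihj =>
        rw [pow_succ', mul_smul, Nat.succ_mul, ← Nat.sub_sub]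
        exact ih c hc _ _ ihj
    by_cases hk : k ≤ (p - 1) * (s + 1)
    · have h1 := hit (p - 1)
      rw [Nat.sub_eq_zero_of_le hk, Nat.add_zero] at h1
      have h2 : c • (c ^ (p - 1) • ψ x) ∈ M ψ hψ n₀ := by
        rw [← hb n₀ le_rfl] at hc
        exact hc _ h1
      rw [smul_smul, ← pow_succ', Nat.sub_add_cancel (by omega : 1 ≤ p), ← hψ] at h2
      exact M_mono ψ hψ (by omega) ((mem_M_succ ψ hψ).mpr h2)
    · have h1 := hit p
      rw [← hψ] at h1
      refine M_mono ψ hψ ?_ ((mem_M_succ ψ hψ).mpr h1)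
      have e1 : p * (s + 1) = (p - 1) * (s + 1) + (s + 1) := by
        conv_lhs => rw [show p = (p - 1) + 1 by omega, Nat.succ_mul]
      have e2 : s + 1 ≤ (p - 1) * (s + 1) := Nat.le_mul_of_pos_left _ (by omega)
      omega

include hb in
theorem smul_mem (hp : 2 ≤ p) (hloc : ∀ x : X, ∃ n, ψ^[n] x = 0) {c : C} (hc : c ∈ b) (x : X) :
    c • x ∈ M ψ hψ (n₀ + 1) := by
  obtain ⟨n, hn⟩ := hloc x
  have := shift ψ hψ hb hp n c hc n x (M_mono ψ hψ (by omega) hn)
  simpa [Nat.sub_eq_zero_of_le (Nat.le_succ n)] using this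

open scoped Classical in
theorem exists_iterate_eq_zero [IsNoetherianRing C] [IsLocalRing C]
    [IsAdicComplete (maximalIdeal C) C] [IsArtinian C X] (hp : 2 ≤ p)
    (hψ : ∀ (c : C) (x : X), ψ (c • x) = c ^ p • ψ x)
    (hloc : ∀ x : X, ∃ n, ψ^[n] x = 0) : ∃ n, ∀ x : X, ψ^[n] x = 0 := by
  obtain ⟨n₀, hn₀⟩ := monotone_stabilizes_iff_noetherian.mpr (inferInstance : IsNoetherian C C)
    ⟨layerAnn ψ hψ, layerAnn_mono ψ hψ (by omega)⟩
  set b := layerAnn ψ hψ n₀ with hbdef
  have hb : ∀ n, n₀ ≤ n → layerAnn ψ hψ n = b := fun n hn => (hn₀ n hn).symm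
  by_cases htop : b = ⊤
  · refine ⟨n₀, fun x => ?_⟩
    obtain ⟨n, hn⟩ := hloc x
    have : ∀ j, M ψ hψ (n₀ + j) ≤ M ψ hψ n₀ := fun j => by
      induction j with
      | zero => exact le_rfl
      | succ j ih =>
        intro y hy
        have h1 : (1 : C) ∈ layerAnn ψ hψ (n₀ + j) := by rw [hb _ (by omega), htop]; trivial
        exact ih (by simpa using h1 y hy)
    exact this n (M_mono ψ hψ (by omega) hn)
  exfalso
  obtain ⟨P, hP⟩ := Ideal.nonempty_minimalPrimes htop
  haveI := hP.1.1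
  obtain ⟨E, _, _, f, hf⟩ := Groth.Agent.S0299.result C (ResidueField C)
  haveI : Module.Finite C (X →ₗ[C] E) := (LC.dual_finite_of_isArtinian hf X).1
  let K : ℕ → Submodule C (X →ₗ[C] E) := fun j =>
    { carrier := {ξ | ∀ x ∈ M ψ hψ (n₀ + 1 + j), ξ x = 0}
      zero_mem' := fun x _ => rfl
      add_mem' := fun {ξ η} h1 h2 x hx => by rw [LinearMap.add_apply, h1 x hx, h2 x hx, add_zero]
      smul_mem' := fun c ξ h1 x hx => by rw [LinearMap.smul_apply, h1 x hx, smul_zero] }
  have hKanti : ∀ j, K (j + 1) ≤ K j := fun j ξ hξ x hx => hξ x (M_mono ψ hψ (by omega) hx)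
  have hK0 : ∀ j, K j ≤ K 0 := fun j => by
    induction j with
    | zero => exact le_rfl
    | succ j ih => exact (hKanti j).trans ih
  have hbK : ∀ c ∈ b, ∀ ξ ∈ K 0, c • ξ = 0 := fun c hc ξ hξ => LinearMap.ext fun x => by
    rw [LinearMap.smul_apply, ← map_smul]
    exact hξ _ (smul_mem ψ hψ hb hp hloc hc x)
  -- no element outside `P` maps `K j` into `K (j+1)`
  have hout : ∀ j, ∀ u ∉ P, ∃ ξ ∈ K j, u • ξ ∉ K (j + 1) := fun j u hu => by
    by_contra! hcon
    have hub : u ∉ layerAnn ψ hψ (n₀ + 1 + j) := by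
      rw [hb _ (by omega)]
      exact fun h => hu (hP.1.2 h)
    have : ∃ x ∈ M ψ hψ (n₀ + 1 + j + 1), u • x ∉ M ψ hψ (n₀ + 1 + j) := by
      by_contra! h
      exact hub h
    obtain ⟨x, hx, hux⟩ := this
    obtain ⟨η, hη⟩ := LC.exists_dual_ne_zero hf
      (m := Submodule.Quotient.mk (p := M ψ hψ (n₀ + 1 + j)) (u • x))
      (by rwa [Ne, Submodule.Quotient.mk_eq_zero])
    let ξ : X →ₗ[C] E := η ∘ₗ Submodule.mkQ _
    have hξ : ξ ∈ K j := fun y hy => by
      show η (Submodule.Quotient.mk y) = 0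
      rw [(Submodule.Quotient.mk_eq_zero _).mpr hy, map_zero]
    apply hη
    show ξ (u • x) = 0
    rw [map_smul, ← LinearMap.smul_apply]
    exact hcon ξ hξ x hx
  let Q := Localization P.primeCompl
  let L := LocalizedModule P.primeCompl (K 0)
  let ι : K 0 →ₗ[C] L := LocalizedModule.mkLinearMap P.primeCompl (K 0)
  haveI : Module.Finite C (K 0) := Module.Finite.iff_fg.mpr (IsNoetherian.noetherian _)
  haveI : Module.Finite Q L := Module.Finite.of_isLocalizedModule P.primeCompl ι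
  haveI : IsNoetherianRing Q := IsLocalization.isNoetherianRing P.primeCompl _ inferInstance
  have hrad : maximalIdeal Q ≤ (b.map (algebraMap C Q)).radical := by
    rw [Ideal.radical_eq_sInf]
    refine le_sInf fun q hq => ?_
    obtain ⟨hq1, hq2⟩ := hq
    haveI := hq2
    have h1 : b ≤ q.comap (algebraMap C Q) := Ideal.map_le_iff_le_comap.mp hq1
    haveI := Ideal.IsPrime.comap (algebraMap C Q) (K := q)
    have h2 : q.comap (algebraMap C Q) ≤ P := by
      intro c hc
      by_contra hcP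
      exact hq2.ne_top (Ideal.eq_top_of_isUnit_mem _ hc (IsLocalization.map_units Q (⟨c, hcP⟩ : P.primeCompl)))
    have h3 : P = q.comap (algebraMap C Q) := le_antisymm (hP.2 ⟨inferInstance, h1⟩ h2) h2
    rw [← IsLocalization.AtPrime.map_eq_maximalIdeal P Q]
    exact (Ideal.map_mono h3.le).trans Ideal.map_comap_le
  obtain ⟨k, hk⟩ := Ideal.exists_pow_le_of_le_radical_of_fg hrad (IsNoetherian.noetherian _)
  have hann : maximalIdeal Q ^ k ≤ Module.annihilator Q L := by
    refine hk.trans (Ideal.map_le_iff_le_comap.mpr fun c hc => ?_)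
    rw [Ideal.mem_comap, Module.mem_annihilator]
    intro l
    obtain ⟨⟨z, s⟩, rfl⟩ := IsLocalizedModule.mk'_surjective P.primeCompl ι l
    rw [Function.uncurry_apply_pair, algebraMap_smul, ← IsLocalizedModule.mk'_smul,
      show c • z = 0 from Subtype.ext (hbK c hc z z.2), IsLocalizedModule.mk'_zero]
  haveI hart : IsArtinian Q L := by
    rcases subsingleton_or_nontrivial L with h | h
    · exact isArtinian_of_finite
    · exact (isFiniteLength_iff_isNoetherian_isArtinian.1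
        (AssLib.isFiniteLength_of_pow_le_annihilator Q L hann)).2
  let F : ℕ → Submodule Q L := fun j =>
    ((K j).comap (K 0).subtype).localized' Q P.primeCompl ι
  have hF : StrictAnti F := by
    refine strictAnti_nat_of_succ_lt fun j => lt_of_le_of_ne ?_ ?_
    · rintro l ⟨m, hm, s, rfl⟩
      exact ⟨m, hKanti j hm, s, rfl⟩
    · intro heq
      have hfg : (K j).FG := IsNoetherian.noetherian _
      have hall : ∀ ξ ∈ K j, ∃ u ∉ P, u • ξ ∈ K (j + 1) := fun ξ hξ => by
        have hmem : IsLocalizedModule.mk' ι (⟨ξ, hK0 j hξ⟩ : K 0) 1 ∈ F j :=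
          ⟨⟨ξ, hK0 j hξ⟩, hξ, 1, rfl⟩
        rw [← heq] at hmem
        obtain ⟨m, hm, s, hms⟩ := hmem
        rw [IsLocalizedModule.mk'_eq_mk'_iff] at hms
        obtain ⟨t, ht⟩ := hms
        have ht' := congrArg (fun z : K 0 => (z : X →ₗ[C] E)) ht
        simp only [SetLike.val_smul, Submonoid.smul_def, Submonoid.coe_one, one_smul, smul_smul] at ht'
        exact ⟨(t : C) * s, P.primeCompl.mul_mem t.2 s.2, ht' ▸ Submodule.smul_mem _ _ hm⟩
      choose! u huP huK using hall
      obtain ⟨g, hg⟩ := hfg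
      have hgK : ∀ ξ ∈ g, ξ ∈ K j := fun ξ hξ => hg ▸ Submodule.subset_span hξ
      obtain ⟨ξ, hξ, hξ'⟩ := hout j (∏ ξ ∈ g, u ξ) (P.primeCompl.prod_mem fun ξ hξ => huP ξ (hgK ξ hξ))
      apply hξ'
      have : K j ≤ (K (j + 1)).comap (LinearMap.lsmul C _ (∏ ξ ∈ g, u ξ)) := by
        rw [← hg, Submodule.span_le]
        intro η hη
        show (∏ ξ ∈ g, u ξ) • η ∈ K (j + 1)
        rw [← Finset.mul_prod_erase g u hη, mul_comm, mul_smul]
        exact Submodule.smul_mem _ _ (huK η (hgK η hη))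
      exact this hξ
  obtain ⟨m, hm⟩ := IsArtinian.monotone_stabilizes (R := Q) (M := L)
    ⟨fun j => OrderDual.toDual (F j), fun i j h => hF.antitone h⟩
  exact (hF (Nat.lt_succ_self m)).ne (hm (m + 1) (Nat.le_succ m)).symm

end Groth.Agent.HSL
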